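import Groth.Agent.SDiv.K476.TensStalk
import Groth.Agent.SDiv.K476.HomSh4
import Groth.Agent.VBCurve.K708.PtTwist
import Groth.Agent.VBCurve.K708.Dual
import Groth.Agent.ResProp.K234.Good
import Mathlib.AlgebraicGeometry.Morphisms.FiniteType

/-!
# Twists at a closed point of a regular curve (helper662)

* `Bij f y`: the stalk map of `f` at `y` is bijective; tensor products, cokernels;
* `exists_twist`: for a closed point `x` there are invertible modules `L` of arbitrarily large degree with a
  section `O ⟶ L` which is an isomorphism off `x`;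
* `exists_two_closed`: two closed points.
-/

set_option autoImplicit false
universe u

open CategoryTheory CategoryTheory.Limits AlgebraicGeometry TopologicalSpace Opposite MonoidalCategory

namespace K662.Twist

open scoped Groth.Agent.Dcoh.MonCat
open Groth.Agent Groth.Agent.CycB.StalkExact

section bij

variable {X : Scheme.{u}}

/-- The stalk map at `y` is bijective. -/
def Bij {M N : X.Modules} (f : M ⟶ N) (y : X) : Prop := Function.Bijective (stalkLin f y)

theorem Bij.comp {M N K : X.Modules} {f : M ⟶ N} {g : N ⟶ K} {y : X} (hf : Bij f y) (hg : Bij g y) :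
    Bij (f ≫ g) y := by
  unfold Bij at *
  rw [stalkLin_comp, LinearMap.coe_comp]
  exact hg.comp hf

theorem Bij.of_isIso {M N : X.Modules} (f : M ⟶ N) [IsIso f] (y : X) : Bij f y :=
  (stalkLinEquiv (asIso f) y).bijective

theorem isIso_of_bij {M N : X.Modules} (f : M ⟶ N) (h : ∀ y, Bij f y) : IsIso f :=
  K476.HomSh4.isIso_of_stalk f fun y => by
    rw [K476.HomSh1.stalkMapₗ_eq]
    exact h y

theorem Bij.whiskerLeft (M : X.Modules) {N N' : X.Modules} {g : N ⟶ N'} {y : X} (h : Bij g y) :
    Bij (M ◁ g) y := by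
  have h1 := K476.TensStalk.bijective_stalkMapₗ_tensorMap (𝟙 M) g y
    (K476.HomSh4.bijective_stalkMapₗ_of_isIso _ _) (by
      rw [K476.HomSh1.stalkMapₗ_eq]
      exact h)
  rw [K476.HomSh1.stalkMapₗ_eq, ← KoszTw.tensorBi_obj_map] at h1
  exact h1

theorem Bij.whiskerRight (M : X.Modules) {N N' : X.Modules} {g : N ⟶ N'} {y : X} (h : Bij g y) :
    Bij (g ▷ M) y := by
  have h1 : g ▷ M = (β_ N M).hom ≫ M ◁ g ≫ (β_ N' M).inv := by
    rw [← BraidedCategory.braiding_naturality_left_assoc, Iso.hom_inv_id, Category.comp_id]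
  rw [h1]
  exact (Bij.of_isIso _ _).comp ((h.whiskerLeft M).comp (Bij.of_isIso _ _))

theorem subsingleton_coker {M N : X.Modules} {f : M ⟶ N} {y : X} (h : Bij f y) :
    Subsingleton ((cokernel f).presheaf.stalk y) := by
  have hS : (ShortComplex.mk f (cokernel.π f) (cokernel.condition f)).Exact := ShortComplex.exact_cokernel f
  have h1 := stalkLin_exact _ hS y
  have h2 := stalkLin_surjective (cokernel.π f) y
  refine subsingleton_of_forall_eq 0 fun z => ?_
  obtain ⟨a, rfl⟩ := h2 z
  obtain ⟨c, hc⟩ := h.2 a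
  exact (h1 a).mpr ⟨c, hc⟩

theorem bij_of_subsingleton {M N : X.Modules} (f : M ⟶ N) (y : X) (h1 : Subsingleton (M.presheaf.stalk y))
    (h2 : Subsingleton (N.presheaf.stalk y)) : Bij f y :=
  ⟨fun a b _ => @Subsingleton.elim _ h1 a b, fun _ => ⟨0, @Subsingleton.elim _ h2 _ _⟩⟩

end bij

section curve

open Groth.Agent.VarietyA.DegRank K707.Base K707.Deg K707.Slope K707.Semi K707.TensL K708.PtTwist K708.SSH0
open Groth.Agent.VarietyA.TwistDown Groth.Agent.VarietyA.TwistSeq Groth.Agent.VarietyA.RegPoint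

variable {k : Type u} [Field k] {X : Scheme.{u}} [X.Over (Spec (CommRingCat.of k))]
  [IsIntegral X] [IsProper (X ↘ (Spec (CommRingCat.of k)))]

theorem exists_twist_one (C : Crv k X) {x : X} (hx : IsClosed ({x} : Set X)) :
    ∃ (A : X.Modules) (τ : 𝟙_ X.Modules ⟶ A), PicF.IsInvertible A ∧ Mono τ ∧ (∀ y, y ≠ x → Bij τ y) ∧
      1 ≤ dg k A := by
  have hO : PicF.IsInvertible (Coh.structureModule X) := rank_one_iff.mp rank_structureModule
  have h1 := invertible_vanish C hO hx
  have h2 := dg_vanish_lt C hO hx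
  obtain ⟨A, hA, ⟨e1⟩, -, hdA⟩ := exists_inv C h1
  have h3 := dg_structureModule (k := k) (X := X)
  let I : X.Modules := (vanish (Coh.structureModule X) x).toModules
  let ι : I ⟶ 𝟙_ X.Modules := (vanish (Coh.structureModule X) x).ι
  have hι : Mono ι := inferInstanceAs (Mono (vanish (Coh.structureModule X) x).ι)
  let e : I ⊗ A ≅ 𝟙_ X.Modules := e1
  have hm : Mono (ι ▷ A) := K708.Dual.mono_whiskerRight (vb_of_inv hA) ι
  have hb : ∀ y, y ≠ x → Bij ι y := fun y hy => by
    obtain ⟨h5, h6, -⟩ := stalkLin_shortExact (seq (Coh.structureModule X) x) (seq_shortExact _ x) y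
    have h7 := subsingleton_stalk_quot (Coh.structureModule X) x y hy hx
    exact ⟨h5, fun c => (h6 c).mp (@Subsingleton.elim _ h7 _ _)⟩
  refine ⟨A, e.inv ≫ ι ▷ A ≫ (λ_ A).hom, hA, inferInstance, fun y hy => ?_, ?_⟩
  · exact (Bij.of_isIso _ _).comp (((hb y hy).whiskerRight A).comp (Bij.of_isIso _ _))
  · rw [hdA]
    omega

/-- Invertible modules of arbitrarily large degree with a section which is an isomorphism off `x`. -/
theorem exists_twist (C : Crv k X) {x : X} (hx : IsClosed ({x} : Set X)) (N : ℤ) :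
    ∃ (L : X.Modules) (s : 𝟙_ X.Modules ⟶ L), PicF.IsInvertible L ∧ Mono s ∧ (∀ y, y ≠ x → Bij s y) ∧
      N ≤ dg k L := by
  have := isLocNoeth C
  obtain ⟨A, τ, hA, hτ, hb, hd⟩ := exists_twist_one C hx
  have key : ∀ n : ℕ, ∃ (L : X.Modules) (s : 𝟙_ X.Modules ⟶ L), PicF.IsInvertible L ∧ Mono s ∧
      (∀ y, y ≠ x → Bij s y) ∧ (n : ℤ) ≤ dg k L := by
    intro n
    induction n with
    | zero =>
      refine ⟨A, τ, hA, hτ, hb, ?_⟩
      push_cast
      omega
    | succ n ih =>
      obtain ⟨L, s, hL, hs, hbs, hdL⟩ := ih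
      have hm : Mono (L ◁ τ) := K708.Dual.mono_whiskerLeft (vb_of_inv hL) τ
      refine ⟨L ⊗ A, s ≫ (ρ_ L).inv ≫ L ◁ τ, ?_, inferInstance, fun y hy => ?_, ?_⟩
      · refine rank_one_iff.mp ?_
        have h1 := vb_tensor (vb_of_inv hL) (vb_of_inv hA)
        have h2 := isFinLocFreeOfRank_rk h1
        rw [rk_tensor (rank_one_iff.mpr hA) (coh_inv hL), rk_inv hL] at h2
        exact h2
      · exact (hbs y hy).comp ((Bij.of_isIso _ _).comp ((hb y hy).whiskerLeft L))
      · have h1 := dg_tensor k C.dim (rank_one_iff.mpr hA) (coh_inv hL)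
        rw [rk_inv hL] at h1
        have h2 : dg k (L ⊗ A) = dg k L + dg k A := by
          refine h1.trans ?_
          push_cast
          ring
        rw [h2]
        push_cast
        omega
  obtain ⟨L, s, h1, h2, h3, h4⟩ := key N.toNat
  exact ⟨L, s, h1, h2, h3, (Int.self_le_toNat N).trans h4⟩

omit [IsIntegral X] in
include k in
/-- Two closed points. -/
theorem exists_two_closed (hd : topologicalKrullDim X = 1) [Nonempty X] :
    ∃ x y : X, x ≠ y ∧ IsClosed ({x} : Set X) ∧ IsClosed ({y} : Set X) := by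
  have hJ : JacobsonSpace X := LocallyOfFiniteType.jacobsonSpace (X ↘ (Spec (CommRingCat.of k)))
  obtain ⟨x, hx⟩ := exists_closedPoint k (X := X)
  by_contra hcon
  push Not at hcon
  have h1 : closedPoints X = {x} := by
    ext y
    rw [mem_closedPoints_iff, Set.mem_singleton_iff]
    constructor
    · intro hy
      by_contra hne
      exact hcon x y (Ne.symm hne) hx hy
    · rintro rfl
      exact hx
  have h2 := closure_closedPoints (X := X)
  rw [h1, hx.closure_eq] at h2
  have h3 : Subsingleton X := ⟨fun a b => by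
    have ha : a ∈ ({x} : Set X) := h2 ▸ Set.mem_univ a
    have hb : b ∈ ({x} : Set X) := h2 ▸ Set.mem_univ b
    rw [Set.mem_singleton_iff] at ha hb
    rw [ha, hb]⟩
  have h4 : topologicalKrullDim X ≤ 0 := topologicalKrullDim_zero_of_discreteTopology X
  rw [hd] at h4
  exact absurd h4 (by decide)

end curve

end K662.Twist
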