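import Groth.Agent.TFCurv.K662.H1Van
import Groth.Agent.TFCurv.K662.Twist
import Groth.Agent.TFCurv.K334.Dat
import Groth.Agent.Flat2F.HHSeq

/-!
# Existence of the deformation data (helper662)

Two bundles `S`, `G` on a smooth proper curve, a non-split extension of `G` by `S` and one of `S` by `G` give
`Nonempty (K334.Dat.Dat S G)`.
-/

set_option autoImplicit false
universe u

open CategoryTheory CategoryTheory.Limits AlgebraicGeometry TopologicalSpace Opposite MonoidalCategory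

namespace K662.DatEx

open scoped Groth.Agent.Dcoh.MonCat
open Groth.Agent Groth.Agent.VarietyA.DegRank K707.Base K707.Deg K707.Slope K707.Semi K707.TensL K708.PtTwist
open K662.Twist K662.H1Van K334.Dat

section tens

variable {X : Scheme.{u}}

/-- The map `M ⟶ M ⊗ L` given by a section of `L`. -/
noncomputable def tw (M : X.Modules) {L : X.Modules} (s : 𝟙_ X.Modules ⟶ L) : M ⟶ M ⊗ L := (ρ_ M).inv ≫ M ◁ s

theorem tw_naturality {M N : X.Modules} (f : M ⟶ N) {L : X.Modules} (s : 𝟙_ X.Modules ⟶ L) :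
    tw M s ≫ f ▷ L = f ≫ tw N s := by
  unfold tw
  rw [Category.assoc, whisker_exchange, ← rightUnitor_inv_naturality_assoc]

theorem mono_tw {M : X.Modules} (hM : FlatMod.IsFinLocFree M) {L : X.Modules} (s : 𝟙_ X.Modules ⟶ L) [Mono s] :
    Mono (tw M s) := by
  have := K708.Dual.mono_whiskerLeft hM s
  exact mono_comp _ _

theorem bij_tw (M : X.Modules) {L : X.Modules} {s : 𝟙_ X.Modules ⟶ L} {y : X} (h : Bij s y) :
    Bij (tw M s) y := (Bij.of_isIso _ _).comp (h.whiskerLeft M)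

/-- If `s` is an isomorphism off `x` and `M` is zero at `x`, then `M ≅ M ⊗ L`. -/
theorem isIso_tw (M : X.Modules) {L : X.Modules} {s : 𝟙_ X.Modules ⟶ L} {x : X} (h : ∀ y, y ≠ x → Bij s y)
    (hM : Subsingleton (M.presheaf.stalk x)) : IsIso (tw M s) := by
  refine isIso_of_bij _ fun y => ?_
  by_cases hy : y = x
  · subst hy
    exact bij_of_subsingleton _ _ hM (K234.Dev.subsingleton_stalk_tensor_left M L y hM)
  · exact bij_tw M (h y hy)

end tens

section curve

variable {k : Type u} [Field k] {X : Scheme.{u}} [X.Over (Spec (CommRingCat.of k))]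
  [IsIntegral X] [IsProper (X ↘ (Spec (CommRingCat.of k)))]

/-- One half of the data: an enlargement `i : S ⟶ P` at the point `x`, and a map `G ⟶ coker i` which does not lift. -/
theorem exists_half (C : Crv k X) (D : K703.Duality.Dualizing k X) {S G : X.Modules}
    (vS : FlatMod.IsFinLocFree S) (vG : FlatMod.IsFinLocFree G) {A : X.Modules} (i : S ⟶ A) (p : A ⟶ G)
    (w : i ≫ p = 0) (hS : (ShortComplex.mk i p w).ShortExact) (hns : ¬ ∃ s : G ⟶ A, s ≫ p = 𝟙 _)
    {x : X} (hx : IsClosed ({x} : Set X)) :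
    ∃ (L : X.Modules) (s : 𝟙_ X.Modules ⟶ L) (a : G ⟶ cokernel (tw S s)),
      PicF.IsInvertible L ∧ Mono s ∧ (∀ y, y ≠ x → Bij s y) ∧
        ¬ ∃ t : G ⟶ S ⊗ L, t ≫ cokernel.π (tw S s) = a := by
  have := isLocNoeth C
  obtain ⟨G', hG', ⟨P⟩⟩ := K708.Dual.exists_dual (isFinLocFreeOfRank_rk vG)
  obtain ⟨N, hN⟩ := exists_bound C D (vb_tensor vS (isFinLocFree_of_rank hG'))
  obtain ⟨L, s, hL, hs, hb, hd⟩ := exists_twist C hx N
  have hm := mono_tw vS s
  have h1 := hN L hL hd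
  let e : (S ⊗ G') ⊗ L ≅ (S ⊗ L) ⊗ G' := α_ S G' L ≪≫ whiskerLeftIso S (β_ G' L) ≪≫ (α_ S L G').symm
  have h2 : Subsingleton (Coh.HH X (CohB1.tensorMod (S ⊗ L) G') 1) :=
    Groth.Agent.Flat2F.HHSeq.subsingleton_HH_of_iso e 1 h1
  obtain ⟨m, hm'⟩ := @exists_extend X (ShortComplex.mk i p w) hS (S ⊗ L) (tw S s) G' P h2
  have hE : (ShortComplex.mk (tw S s) (cokernel.π (tw S s)) (cokernel.condition _)).ShortExact :=
    { exact := ShortComplex.exact_cokernel _
      mono_f := hm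
      epi_g := inferInstance }
  obtain ⟨a, ha⟩ := exists_not_lift (ShortComplex.mk i p w) hS (tw S s) (cokernel.π (tw S s))
    (cokernel.condition _) hE m hm' hns
  exact ⟨L, s, a, hL, hs, hb, ha⟩

theorem nonempty_dat (C : Crv k X) [Smooth (X ↘ (Spec (CommRingCat.of k)))] {S G : X.Modules}
    (vS : FlatMod.IsFinLocFree S) (vG : FlatMod.IsFinLocFree G)
    {A : X.Modules} (i : S ⟶ A) (p : A ⟶ G) (w : i ≫ p = 0) (hA : (ShortComplex.mk i p w).ShortExact)
    (hnA : ¬ ∃ s : G ⟶ A, s ≫ p = 𝟙 _)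
    {B : X.Modules} (j : G ⟶ B) (q : B ⟶ S) (z : j ≫ q = 0) (hB : (ShortComplex.mk j q z).ShortExact)
    (hnB : ¬ ∃ s : S ⟶ B, s ≫ q = 𝟙 _) : Nonempty (Dat S G) := by
  have := isLocNoeth C
  obtain ⟨D⟩ := K703.Duality.nonempty_dualizing k X C.dim
  obtain ⟨x₁, x₂, hne, hx₁, hx₂⟩ := exists_two_closed (k := k) C.dim (X := X)
  obtain ⟨L₁, s₁, a, hL₁, hs₁, hb₁, ha⟩ := exists_half C D vS vG i p w hA hnA hx₁
  obtain ⟨L₂, s₂, b, hL₂, hs₂, hb₂, hb⟩ := exists_half C D vG vS j q z hB hnB hx₂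
  have hm₁ := mono_tw vS s₁
  have hm₂ := mono_tw vG s₂
  have vP₁ : FlatMod.IsFinLocFree (S ⊗ L₁) := vb_tensor vS (vb_of_inv hL₁)
  have vP₂ : FlatMod.IsFinLocFree (G ⊗ L₂) := vb_tensor vG (vb_of_inv hL₂)
  have hN₁ : ∀ y, y ≠ x₁ → Subsingleton ((cokernel (tw S s₁)).presheaf.stalk y) := fun y hy =>
    subsingleton_coker (bij_tw S (hb₁ y hy))
  have hN₂ : ∀ y, y ≠ x₂ → Subsingleton ((cokernel (tw G s₂)).presheaf.stalk y) := fun y hy =>
    subsingleton_coker (bij_tw G (hb₂ y hy))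
  have hi₁ : IsIso (tw (cokernel (tw S s₁)) s₂) := isIso_tw _ hb₂ (hN₁ x₂ hne.symm)
  have hi₂ : IsIso (tw (cokernel (tw G s₂)) s₁) := isIso_tw _ hb₁ (hN₂ x₁ hne)
  exact ⟨{
    P₁ := S ⊗ L₁
    P₂ := G ⊗ L₂
    N₁ := cokernel (tw S s₁)
    N₂ := cokernel (tw G s₂)
    i₁ := tw S s₁
    q₁ := cokernel.π _
    i₂ := tw G s₂
    q₂ := cokernel.π _
    w₁ := cokernel.condition _
    w₂ := cokernel.condition _
    e₁ := { exact := ShortComplex.exact_cokernel _, mono_f := hm₁, epi_g := inferInstance }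
    e₂ := { exact := ShortComplex.exact_cokernel _, mono_f := hm₂, epi_g := inferInstance }
    a := a ▷ L₂ ≫ inv (tw (cokernel (tw S s₁)) s₂)
    b := b ▷ L₁ ≫ inv (tw (cokernel (tw G s₂)) s₁)
    v₁ := vP₁
    v₂ := vP₂
    c₁ := coh_cokernel _ (coh_of_vb vS) (coh_of_vb vP₁)
    c₂ := coh_cokernel _ (coh_of_vb vG) (coh_of_vb vP₂)
    disj := fun y => by
      by_cases hy : y = x₁
      · exact Or.inr (hN₂ y (hy ▸ hne))
      · exact Or.inl (hN₁ y hy)
    na := by
      rw [← Category.assoc, tw_naturality, Category.assoc, IsIso.hom_inv_id, Category.comp_id]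
      exact ha
    nb := by
      rw [← Category.assoc, tw_naturality, Category.assoc, IsIso.hom_inv_id, Category.comp_id]
      exact hb }⟩

end curve

end K662.DatEx
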