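import Groth.Agent.VBCurve.K703.Duality
import Groth.Agent.VBCurve.K705.Setup
import Groth.Agent.VBCurve.K705.ExtH1
import Groth.Agent.VBCurve.K708.PtTwist
import Groth.Agent.VBCurve.K708.Dual

/-!
# Vanishing of `H¹` for twists of large degree, extensions of maps (helper662)

* `exists_bound`: on a smooth proper curve, for a finite locally free `V` there is `N` such that
  `H¹(X, V ⊗ L) = 0` for every invertible `L` of degree `≥ N`;
* `exists_extend`: if `H¹(P ⊗ G^∨) = 0` every map `S ⟶ P` extends along an extension of `G` by `S`.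
-/

set_option autoImplicit false
universe u

open CategoryTheory CategoryTheory.Limits AlgebraicGeometry TopologicalSpace Opposite MonoidalCategory

namespace K662.H1Van

open Groth.Agent Groth.Agent.VarietyA.DegRank K707.Base K707.Deg K707.Slope K707.Semi K707.TensL K705.Setup
  K708.PtTwist

section bound

theorem exists_mono_untwist {X : Scheme.{u}} {V K L A : X.Modules} (hA : PicF.IsInvertible A)
    (e1 : CohB1.tensorMod L A ≅ Coh.structureModule X) (i : K ⟶ CohB1.tensorMod V L) [Mono i] :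
    ∃ j : CohB1.tensorMod K A ⟶ V, Mono j := by
  have := isEquivalence hA
  have hu : Mono ((T A).map i) := (T A).map_mono i
  let e : (T A).obj (CohB1.tensorMod V L) ≅ V := (PerfB.TensInv.tensorInvIso e1).app V
  have h : ∃ j : (T A).obj K ⟶ V, Mono j := ⟨(T A).map i ≫ e.hom, mono_comp _ _⟩
  exact h

variable {k : Type u} [Field k] {X : Scheme.{u}} [X.Over (Spec (CommRingCat.of k))]
  [IsIntegral X] [IsProper (X ↘ (Spec (CommRingCat.of k)))]

/-- Degrees of submodules of a twist. -/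
theorem dg_sub_twist (C : Crv k X) {V K L : X.Modules} (hV : FlatMod.IsFinLocFree V)
    (hL : PicF.IsInvertible L) (i : K ⟶ CohB1.tensorMod V L) [Mono i] (hK : Coh.IsCoh K) :
    dg k K ≤ rk K * dg k L +
      (Module.finrank k (Coh.HH X V 0) + rk V * |Curv2.euler k X (Coh.structureModule X)|) := by
  obtain ⟨A, hA, ⟨e1⟩, -, hdA⟩ := exists_inv C hL
  have hA1 := rank_one_iff.mpr hA
  obtain ⟨j, hj⟩ := exists_mono_untwist hA e1 i
  have hc := coh_tensor hA1 hK
  have h1 := dg_le_bound C j hc (coh_of_vb hV)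
  have h2 := dg_tensor k C.dim hA1 hK
  rw [h2, hdA] at h1
  push_cast at h1
  linarith

/-- `H¹(V ⊗ L) = 0` for `L` of large degree. -/
theorem exists_bound (C : Crv k X) (D : K703.Duality.Dualizing k X) {V : X.Modules}
    (hV : FlatMod.IsFinLocFree V) :
    ∃ N : ℤ, ∀ L : X.Modules, PicF.IsInvertible L → N ≤ dg k L →
      Subsingleton (Coh.HH X (CohB1.tensorMod V L) 1) := by
  have := isLocNoeth C
  refine ⟨dg k D.w - dg k V +
    (Module.finrank k (Coh.HH X V 0) + rk V * |Curv2.euler k X (Coh.structureModule X)|) + 1,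
    fun L hL hN => ?_⟩
  have hL1 := rank_one_iff.mpr hL
  have hVL : FlatMod.IsFinLocFree (CohB1.tensorMod V L) := vb_tensor hV (vb_of_inv hL)
  have hc := coh_of_vb hVL
  have hw := coh_inv D.inv
  refine D.subsingleton_h1 hc.1 fun φ => ?_
  by_contra hφ
  obtain ⟨I, p, i, hp, hi, hpi, hI, e1, e2, e3, e4⟩ := exists_factor C φ hc hw
  have hIv : FlatMod.IsFinLocFree I := vb_of_mono C i hI (vb_of_inv D.inv)
  have hw1 : rk D.w = 1 := rk_inv D.inv
  have hI0 : rk I ≠ 0 := fun h0 => by
    have hz := isZero_of_rk_eq_zero C hIv h0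
    apply hφ
    rw [← hpi, hz.eq_of_tgt p 0, zero_comp]
  have hI1 : rk I = 1 := by
    have := rk_le_of_mono C i hI hw
    omega
  have hdI : dg k I ≤ dg k D.w := by
    by_contra hcon
    push Not at hcon
    have := isIso_of_mono C i hI hw (by omega) hcon.le
    have := dg_iso k (asIso i)
    omega
  have hK := coh_kernel C φ hc hw
  have h1 := dg_sub_twist C hV hL (kernel.ι φ) hK
  have h2 := dg_tensor k C.dim hL1 (coh_of_vb hV)
  have h3 := rk_tensor hL1 (coh_of_vb hV)
  have h4 : (rk (kernel φ) : ℤ) = rk V - 1 := by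
    rw [h3, one_mul, hI1] at e1
    omega
  rw [h4] at h1
  rw [h2] at e2
  push_cast at e2
  have h5 : ((rk V : ℤ) - 1) * dg k L = rk V * dg k L - dg k L := by ring
  rw [h5] at h1
  linarith

end bound

section extend

open CategoryTheory.Abelian in
theorem exists_extend_of_ext {C : Type*} [Category* C] [Abelian C] [HasExt.{u} C] (T : ShortComplex C)
    (hT : T.ShortExact) {P : C} (i : T.X₁ ⟶ P) (h : Subsingleton (Ext T.X₃ P 1)) :
    ∃ m : T.X₂ ⟶ P, T.f ≫ m = i := by
  obtain ⟨x, hx⟩ := Ext.contravariant_sequence_exact₁ hT P (Ext.mk₀ i) (n₁ := 1) (by omega)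
    (Subsingleton.elim _ _)
  obtain ⟨m, rfl⟩ := (Ext.mk₀_bijective _ _).surjective x
  refine ⟨m, (Ext.mk₀_bijective _ _).injective ?_⟩
  rw [← hx, Ext.mk₀_comp_mk₀]

/-- A non-liftable map from a non-split extension and an extended map. -/
theorem exists_not_lift {C : Type*} [Category* C] [Abelian C] (T : ShortComplex C)
    (hT : T.ShortExact) {P N : C} (i : T.X₁ ⟶ P) (q : P ⟶ N) (w : i ≫ q = 0)
    (hS : (ShortComplex.mk i q w).ShortExact) (m : T.X₂ ⟶ P) (hm : T.f ≫ m = i)
    (hns : ¬ ∃ s : T.X₃ ⟶ T.X₂, s ≫ T.g = 𝟙 _) :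
    ∃ a : T.X₃ ⟶ N, ¬ ∃ s : T.X₃ ⟶ P, s ≫ q = a := by
  have := hT.epi_g
  have := hT.mono_f
  have hi : Mono i := hS.mono_f
  let a : T.X₃ ⟶ N := hT.gIsCokernel.desc (CokernelCofork.ofπ (m ≫ q) (by rw [← Category.assoc, hm, w]))
  have ha : T.g ≫ a = m ≫ q := hT.gIsCokernel.fac _ WalkingParallelPair.one
  refine ⟨a, ?_⟩
  rintro ⟨s, hs⟩
  apply hns
  have h0 : (m - T.g ≫ s) ≫ q = 0 := by
    rw [Preadditive.sub_comp, Category.assoc, hs, ha, sub_self]
  let r : T.X₂ ⟶ T.X₁ := hS.fIsKernel.lift (KernelFork.ofι _ h0)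
  have hr : r ≫ i = m - T.g ≫ s := hS.fIsKernel.fac _ WalkingParallelPair.zero
  have hfr : T.f ≫ r = 𝟙 _ := by
    rw [← cancel_mono i, Category.assoc, hr, Preadditive.comp_sub, hm, ← Category.assoc, T.zero, zero_comp,
      sub_zero, Category.id_comp]
  let σ := ShortComplex.Splitting.ofExactOfRetraction T hT.exact r hfr inferInstance
  exact ⟨σ.s, σ.s_g⟩

variable {X : Scheme.{u}}

open scoped Groth.Agent.Dcoh.MonCat

open CategoryTheory.Abelian in
/-- If `H¹(P ⊗ G^∨) = 0` every map `S ⟶ P` extends along an extension of `G` by `S`. -/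
theorem exists_extend (T : ShortComplex X.Modules) (hT : T.ShortExact) {P : X.Modules} (i : T.X₁ ⟶ P)
    (G' : X.Modules) [ExactPairing T.X₃ G'] (h : Subsingleton (Coh.HH X (CohB1.tensorMod P G') 1)) :
    ∃ m : T.X₂ ⟶ P, T.f ≫ m = i := by
  have := HasExt.standard X.Modules
  obtain ⟨e⟩ := K705.ExtH1.nonempty_ext_equiv T.X₃ G' P
  exact exists_extend_of_ext T hT i e.toEquiv.subsingleton

end extend

end K662.H1Van
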